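import Groth.Agent.Lib.Helper5.WeilAF.Open
import Groth.Agent.Lib.Helper5.LocRepF.Main
import Groth.Agent.Lib.Helper5.WeilP.Main

set_option autoImplicit false
universe u
open CategoryTheory CategoryTheory.Limits AlgebraicGeometry Opposite

namespace Groth.Agent.Lib.Helper5.WeilAF

open Groth.Agent.Helper7.MorSBC Groth.Agent.Lib.Helper5.LocRepF

variable {Z X S : Scheme.{u}} (g : Z ⟶ S) (f : X ⟶ S)

section V
variable (V : X.Opens) (W : Over S) (r : (Flatn.morS g (V.ι ≫ f)).RepresentableBy W)

/-- the inclusion of `V`, over `S`. -/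
noncomputable def jV : Over.mk (V.ι ≫ f) ⟶ Over.mk f := Over.homMk V.ι rfl

/-- post-composition with the inclusion of `V`. -/
noncomputable def post {T : Over S} (c : (Flatn.morS g (V.ι ≫ f)).obj (op T)) :
    (Flatn.morS g f).obj (op T) :=
  (c : (Over.map g).obj ((Over.pullback g).obj T) ⟶ Over.mk (V.ι ≫ f)) ≫ jV f V

theorem post_left {T : Over S} (c : (Flatn.morS g (V.ι ≫ f)).obj (op T)) :
    (post g f V c).left = c.left ≫ V.ι := rfl

theorem post_map {T T' : Over S} (a : T' ⟶ T) (c : (Flatn.morS g (V.ι ≫ f)).obj (op T)) :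
    (Flatn.morS g f).map a.op (post g f V c) = post g f V ((Flatn.morS g (V.ι ≫ f)).map a.op c) := by
  apply Over.OverMorphism.ext
  rw [morS_map_left, post_left, post_left, morS_map_left, Category.assoc]

theorem post_injective {T : Over S} : Function.Injective (post g f V (T := T)) := by
  intro c c' h
  apply Over.OverMorphism.ext
  have := congrArg (fun m => m.left) h
  simp only [post_left] at this
  exact (cancel_mono V.ι).1 this

/-- the universal section, viewed in `morS g f`. -/
noncomputable def xiV : (Flatn.morS g f).obj (op W) := post g f V (r.homEquiv (𝟙 W))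

theorem map_xiV {T : Over S} (a : T ⟶ W) :
    (Flatn.morS g f).map a.op (xiV g f V W r) = post g f V (r.homEquiv a) := by
  rw [xiV, post_map]
  have := r.homEquiv_comp a (𝟙 W)
  rw [Category.comp_id] at this
  rw [this]

theorem xiV_injective (T : Over S) :
    Function.Injective (fun a : T ⟶ W => (Flatn.morS g f).map a.op (xiV g f V W r)) := by
  intro a a' h
  have h' : (Flatn.morS g f).map a.op (xiV g f V W r)
      = (Flatn.morS g f).map a'.op (xiV g f V W r) := h
  rw [map_xiV, map_xiV] at h'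
  exact r.homEquiv.injective (post_injective g f V h')

theorem TV_iff [IsFinite g] {T₀ : Scheme.{u}} (t : T₀ ⟶ S)
    (b : (Flatn.morS g f).obj (op (Over.mk t))) {T₁ : Scheme.{u}} (φ : T₁ ⟶ T₀) :
    Set.range φ ⊆ (TV g f t b V : Set T₀) ↔
      ∃ a : Over.mk (φ ≫ t) ⟶ W, (Flatn.morS g f).map a.op (xiV g f V W r)
        = (Flatn.morS g f).map (oHom φ t).op b := by
  rw [range_subset_TV_iff]
  constructor
  · intro h
    have hr : Set.range (pmap g (oHom φ t) ≫ bl g f t b) ⊆ Set.range V.ι := by
      rw [Scheme.Opens.range_ι]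
      exact h
    let c' : pullback (φ ≫ t) g ⟶ V := IsOpenImmersion.lift V.ι (pmap g (oHom φ t) ≫ bl g f t b) hr
    have hc' : c' ≫ V.ι = pmap g (oHom φ t) ≫ bl g f t b := IsOpenImmersion.lift_fac _ _ _
    have hw : c' ≫ (V.ι ≫ f) = pullback.snd (φ ≫ t) g ≫ g := by
      rw [← Category.assoc, hc', Category.assoc, bl_w]
      have : pmap g (oHom φ t) ≫ pullback.snd t g = pullback.snd (φ ≫ t) g := pmap_snd g _
      rw [← Category.assoc, this]
    let c : (Flatn.morS g (V.ι ≫ f)).obj (op (Over.mk (φ ≫ t))) :=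
      Over.homMk (U := (Over.map g).obj ((Over.pullback g).obj (Over.mk (φ ≫ t))))
        (V := Over.mk (V.ι ≫ f)) c' hw
    refine ⟨r.homEquiv.symm c, ?_⟩
    rw [map_xiV, Equiv.apply_symm_apply]
    apply Over.OverMorphism.ext
    rw [post_left, morS_map_left]
    exact hc'
  · rintro ⟨a, ha⟩
    rw [map_xiV] at ha
    have h1 := congrArg (fun m => m.left) ha
    simp only [post_left, morS_map_left] at h1
    have h2 : pmap g (oHom φ t) ≫ bl g f t b = (r.homEquiv a).left ≫ V.ι := h1.symm
    rw [h2]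
    rintro _ ⟨z, rfl⟩
    rw [Scheme.Hom.comp_apply]
    exact (((r.homEquiv a).left) z).2

end V


/-- the case of an affine base. -/
theorem affine_case [IsAffine S] (hg : Mor2.IsFinLocFree g)
    (hAF : ∀ (s : S) (d : ℕ) (x : Fin d → ↥X), (∀ k, f (x k) = s) →
      ∃ U : X.Opens, IsAffineOpen U ∧ ∀ k, x k ∈ U) :
    (Flatn.morS g f).IsRepresentable := by
  haveI : IsFinite g := hg.1
  have hW : ∀ V : X.affineOpens, ∃ W : Over S,
      Nonempty ((Flatn.morS g (V.1.ι ≫ f)).RepresentableBy W) := by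
    intro V
    haveI : IsAffine (V.1 : Scheme.{u}) := V.2
    haveI : IsAffineHom (V.1.ι ≫ f) := isAffineHom_of_isAffine _
    obtain ⟨W, -, hr⟩ := WeilP.weil_global g (V.1.ι ≫ f) hg
    exact ⟨W, hr⟩
  choose W hr using hW
  exact isRepresentable_of_openCover (ι := X.affineOpens) W
    (fun V => xiV g f V.1 (W V) (hr V).some)
    (fun V T => xiV_injective g f V.1 (W V) (hr V).some T)
    (fun V T₀ t b => TV g f t b V.1)
    (fun V T₀ t b T₁ φ => TV_iff g f V.1 (W V) (hr V).some t b φ)
    (morS_isZarSheaf g f)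
    (fun T₀ t b x₀ => by
      obtain ⟨V, hV, hx⟩ := exists_TV g f t b hAF x₀
      exact ⟨⟨V, hV⟩, hx⟩)

end Groth.Agent.Lib.Helper5.WeilAF
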