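import Groth.Agent.Lib.Helper5.WeilAF.Main

set_option autoImplicit false
universe u
open CategoryTheory CategoryTheory.Limits AlgebraicGeometry Opposite

namespace Groth.Agent.Lib.Helper5.WeilAF

open Groth.Agent.Helper7.MorSBC Groth.Agent.Lib.Helper5.LocRepF Groth.Agent.Lib.Helper5.LocRep

variable {Z X S : Scheme.{u}} (g : Z ⟶ S) (f : X ⟶ S)

/-- the case of an affine base, with the covering condition as a hypothesis. -/
theorem affine_case_gen [IsAffine S] [IsFinite g] (hg : Mor2.IsFinLocFree g)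
    (hcov : ∀ (T₀ : Scheme.{u}) (t : T₀ ⟶ S) (b : (Flatn.morS g f).obj (op (Over.mk t))) (x₀ : T₀),
      ∃ V : X.Opens, IsAffineOpen V ∧ x₀ ∈ TV g f t b V) :
    (Flatn.morS g f).IsRepresentable := by
  have hW : ∀ V : X.affineOpens, ∃ W : Over S,
      Nonempty ((Flatn.morS g (V.1.ι ≫ f)).RepresentableBy W) := by
    intro V
    haveI : IsAffine (V.1 : Scheme.{u}) := V.2
    haveI : IsAffineHom (V.1.ι ≫ f) := isAffineHom_of_isAffine _
    obtain ⟨W, -, hr⟩ := WeilP.weil_global g (V.1.ι ≫ f) hg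
    exact ⟨W, hr⟩
  choose W hr using hW
  exact isRepresentable_of_openCover (ι := X.affineOpens) W
    (fun V => xiV g f V.1 (W V) (hr V).some)
    (fun V T => xiV_injective g f V.1 (W V) (hr V).some T)
    (fun V T₀ t b => TV g f t b V.1)
    (fun V T₀ t b T₁ φ => TV_iff g f V.1 (W V) (hr V).some t b φ)
    (morS_isZarSheaf g f)
    (fun T₀ t b x₀ => by
      obtain ⟨V, hV, hx⟩ := hcov T₀ t b x₀
      exact ⟨⟨V, hV⟩, hx⟩)

theorem exists_TV_of_univInj [IsFinite g] [UniversallyInjective g] {T₀ : Scheme.{u}} (t : T₀ ⟶ S)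
    (b : (Flatn.morS g f).obj (op (Over.mk t))) (x₀ : T₀) :
    ∃ V : X.Opens, IsAffineOpen V ∧ x₀ ∈ TV g f t b V := by
  by_cases h : ∃ z, (pullback.fst t g) z = x₀
  · obtain ⟨z, hz⟩ := h
    obtain ⟨V, hV, hzV, -⟩ := exists_isAffineOpen_mem_and_subset (x := (bl g f t b) z)
      (U := (⊤ : X.Opens)) trivial
    refine ⟨V, hV, ?_⟩
    rintro ⟨z', hz', hz'x⟩
    apply hz'
    haveI : UniversallyInjective (pullback.fst t g) :=
      MorphismProperty.pullback_fst (P := @UniversallyInjective) t g inferInstance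
    have : z' = z := (pullback.fst t g).injective (hz'x.trans hz.symm)
    rw [this]
    exact hzV
  · refine ⟨⊥, isAffineOpen_bot X, ?_⟩
    rintro ⟨z', -, hz'x⟩
    exact h ⟨z', hz'x⟩

/-- `Mor_S(Z, X)` is representable when `Z` is finite locally free and universally injective
over `S`. -/
theorem main_univInj (hg : Mor2.IsFinLocFree g) [UniversallyInjective g] :
    (Flatn.morS g f).IsRepresentable := by
  let 𝒰 : Scheme.OpenCover.{u} S := S.affineCover
  haveI : ∀ i, IsAffine (𝒰.X i) := fun i => by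
    change IsAffine (S.affineCover.X i)
    infer_instance
  obtain ⟨hg1, hg2, hg3⟩ := hg
  haveI := hg1
  haveI := hg2
  haveI := hg3
  have hloc : ∀ i, ∃ W : Over (𝒰.X i),
      Nonempty (((Over.map (𝒰.f i)).op ⋙ Flatn.morS g f).RepresentableBy W) := by
    intro i
    have hg' : Mor2.IsFinLocFree (pullback.snd g (𝒰.f i)) :=
      ⟨inferInstance, inferInstance, inferInstance⟩
    haveI : UniversallyInjective (pullback.snd g (𝒰.f i)) :=
      MorphismProperty.pullback_snd (P := @UniversallyInjective) g (𝒰.f i) inferInstance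
    obtain ⟨W, ⟨r⟩⟩ := affine_case_gen (pullback.snd g (𝒰.f i)) (pullback.snd f (𝒰.f i)) hg'
      (fun T₀ t b x₀ => exists_TV_of_univInj _ _ t b x₀)
    exact ⟨W, ⟨WeilP.repOfBC g f (𝒰.f i) W r⟩⟩
  choose W hW using hloc
  obtain ⟨E, ⟨r⟩, -⟩ := representable_of_local (WeilP.morS_isLocSheaf g f 𝒰) W
    (fun i => (hW i).some)
  exact ⟨⟨E, ⟨r⟩⟩⟩

end Groth.Agent.Lib.Helper5.WeilAF
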