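import Groth.Agent.Lib.Helper5.WeilAF.Aff
import Groth.Agent.Lib.Helper2.FiniteAffine

set_option autoImplicit false
universe u
open CategoryTheory CategoryTheory.Limits AlgebraicGeometry Opposite

namespace Groth.Agent.Lib.Helper5.WeilAF

open Groth.Agent.Lib.Helper5.LocRep

/-- the condition on finite sets of points is stable under restriction to an open of the base. -/
theorem hAF_baseChange {X S U : Scheme.{u}} (f : X ⟶ S) (h : U ⟶ S) [IsOpenImmersion h]
    (hAF : ∀ (s : S) (d : ℕ) (x : Fin d → ↥X), (∀ k, f (x k) = s) →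
      ∃ V : X.Opens, IsAffineOpen V ∧ ∀ k, x k ∈ V)
    (s' : U) (d : ℕ) (x' : Fin d → ↥(pullback f h))
    (hx' : ∀ k, (pullback.snd f h) (x' k) = s') :
    ∃ V' : (pullback f h).Opens, IsAffineOpen V' ∧ ∀ k, x' k ∈ V' := by
  classical
  let p : pullback f h ⟶ X := pullback.fst f h
  let x : Fin d → X := fun k => p (x' k)
  have hx : ∀ k, f (x k) = h s' := by
    intro k
    change f (p (x' k)) = h s'
    rw [← Scheme.Hom.comp_apply, pullback.condition, Scheme.Hom.comp_apply, hx' k]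
  obtain ⟨V, hV, hxV⟩ := hAF (h s') d x hx
  obtain ⟨c, hcW, hcT⟩ := Groth.Agent.Helper2.FiniteAffine.exists_basicOpen_finset hV p.opensRange
    (Finset.univ.image x) (by
      intro t ht
      obtain ⟨k, -, rfl⟩ := Finset.mem_image.1 ht
      exact hxV k) (by
      intro t ht
      obtain ⟨k, -, rfl⟩ := Finset.mem_image.1 ht
      exact ⟨x' k, rfl⟩)
  refine ⟨p ⁻¹ᵁ X.basicOpen c, (hV.basicOpen c).preimage_of_isOpenImmersion p hcW, ?_⟩
  intro k
  exact hcT (x k) (Finset.mem_image.2 ⟨k, Finset.mem_univ _, rfl⟩)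

/-- `Mor_S(Z, X)` is representable when `Z` is finite locally free over `S` and finite sets of
points of `X` in a fibre lie in affine opens. -/
theorem main {Z X S : Scheme.{u}} (g : Z ⟶ S) (f : X ⟶ S) (hg : Mor2.IsFinLocFree g)
    (hAF : ∀ (s : S) (d : ℕ) (x : Fin d → ↥X), (∀ k, f (x k) = s) →
      ∃ U : X.Opens, IsAffineOpen U ∧ ∀ k, x k ∈ U) :
    (Flatn.morS g f).IsRepresentable := by
  let 𝒰 : Scheme.OpenCover.{u} S := S.affineCover
  haveI : ∀ i, IsAffine (𝒰.X i) := fun i => by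
    change IsAffine (S.affineCover.X i)
    infer_instance
  obtain ⟨hg1, hg2, hg3⟩ := hg
  haveI := hg1
  haveI := hg2
  haveI := hg3
  have hloc : ∀ i, ∃ W : Over (𝒰.X i),
      Nonempty (((Over.map (𝒰.f i)).op ⋙ Flatn.morS g f).RepresentableBy W) := by
    intro i
    have hg' : Mor2.IsFinLocFree (pullback.snd g (𝒰.f i)) :=
      ⟨inferInstance, inferInstance, inferInstance⟩
    obtain ⟨W, ⟨r⟩⟩ := affine_case (pullback.snd g (𝒰.f i)) (pullback.snd f (𝒰.f i)) hg'
      (hAF_baseChange f (𝒰.f i) hAF)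
    exact ⟨W, ⟨WeilP.repOfBC g f (𝒰.f i) W r⟩⟩
  choose W hW using hloc
  obtain ⟨E, ⟨r⟩, -⟩ := representable_of_local (WeilP.morS_isLocSheaf g f 𝒰) W
    (fun i => (hW i).some)
  exact ⟨⟨E, ⟨r⟩⟩⟩

end Groth.Agent.Lib.Helper5.WeilAF
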