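import Groth.Agent.Lib.Helper5.WeilAF.Sheaf
import Groth.Agent.Lib.Helper7.MorSOpen

set_option autoImplicit false
universe u
open CategoryTheory CategoryTheory.Limits AlgebraicGeometry Opposite

namespace Groth.Agent.Lib.Helper5.WeilAF

open Groth.Agent.Helper7.MorSBC Groth.Agent.Helper7.MorSOpen Groth.Agent.Lib.Helper5.LocRepF

variable {Z X S : Scheme.{u}} (g : Z ⟶ S) (f : X ⟶ S)

section Open
variable {T₀ : Scheme.{u}} (t : T₀ ⟶ S) (b : (Flatn.morS g f).obj (op (Over.mk t)))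

/-- the underlying morphism of a section of `morS`. -/
noncomputable def bl : pullback t g ⟶ X := b.left

theorem bl_w : bl g f t b ≫ f = pullback.snd t g ≫ g := Over.w b

theorem bl_map {T₁ : Scheme.{u}} (φ : T₁ ⟶ T₀) :
    bl g f (φ ≫ t) ((Flatn.morS g f).map (oHom φ t).op b) = pmap g (oHom φ t) ≫ bl g f t b :=
  morS_map_left g f (oHom φ t) b

variable (V : X.Opens)

/-- the points over which the section leaves `V`. -/
noncomputable def bad : Set T₀ := (pullback.fst t g) '' ((bl g f t b) ⁻¹' ((V : Set X)ᶜ))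

theorem isClosed_bad [IsFinite g] : IsClosed (bad g f t b V) :=
  (pullback.fst t g).isClosedMap _
    (IsClosed.preimage (bl g f t b).continuous V.isOpen.isClosed_compl)

/-- the open locus over which the section lands in `V`. -/
noncomputable def TV [IsFinite g] : T₀.Opens := ⟨(bad g f t b V)ᶜ, (isClosed_bad g f t b V).isOpen_compl⟩

theorem range_subset_TV_iff [IsFinite g] {T₁ : Scheme.{u}} (φ : T₁ ⟶ T₀) :
    Set.range φ ⊆ (TV g f t b V : Set T₀) ↔
      Set.range (pmap g (oHom φ t) ≫ bl g f t b) ⊆ (V : Set X) := by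
  constructor
  · rintro h _ ⟨z, rfl⟩
    by_contra hz
    have h1 : φ (pullback.fst (φ ≫ t) g z) ∈ (TV g f t b V : Set T₀) := h ⟨_, rfl⟩
    refine h1 ⟨pmap g (oHom φ t) z, ?_, ?_⟩
    · change (bl g f t b) (pmap g (oHom φ t) z) ∉ (V : Set X)
      rw [← Scheme.Hom.comp_apply]
      exact hz
    · rw [← Scheme.Hom.comp_apply]
      have : pmap g (oHom φ t) ≫ pullback.fst t g = pullback.fst (φ ≫ t) g ≫ φ := pmap_fst g _
      rw [this, Scheme.Hom.comp_apply]
  · rintro h _ ⟨x, rfl⟩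
    rintro ⟨z', hz', hz'x⟩
    obtain ⟨z, hz1, hz2⟩ := exists_of_isPullback
      (isPullback_pmap g (Over.mk t) (oHom φ t)) z' x hz'x
    apply hz'
    have : (pmap g (oHom φ t) ≫ bl g f t b) z ∈ (V : Set X) := h ⟨z, rfl⟩
    rw [Scheme.Hom.comp_apply, hz1] at this
    exact this

theorem exists_TV [IsFinite g]
    (hAF : ∀ (s : S) (d : ℕ) (x : Fin d → ↥X), (∀ k, f (x k) = s) →
      ∃ U : X.Opens, IsAffineOpen U ∧ ∀ k, x k ∈ U) (x₀ : T₀) :
    ∃ V : X.Opens, IsAffineOpen V ∧ x₀ ∈ TV g f t b V := by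
  classical
  have hfin : ((pullback.fst t g) ⁻¹' {x₀}).Finite :=
    (pullback.fst t g).finite_preimage_singleton x₀
  let Fs : Finset (pullback t g : Scheme.{u}) := hfin.toFinset
  let e : Fs ≃ Fin Fs.card := Fs.equivFin
  let x : Fin Fs.card → X := fun k => (bl g f t b) (e.symm k).1
  have hx : ∀ k, f (x k) = t x₀ := by
    intro k
    have hk : (e.symm k).1 ∈ (pullback.fst t g) ⁻¹' {x₀} := by
      have := (e.symm k).2
      exact hfin.mem_toFinset.1 this
    change f ((bl g f t b) (e.symm k).1) = t x₀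
    rw [← Scheme.Hom.comp_apply, bl_w, ← pullback.condition, Scheme.Hom.comp_apply]
    have hk' : (pullback.fst t g) (e.symm k).1 = x₀ := hk
    rw [hk']
  obtain ⟨V, hV, hxV⟩ := hAF (t x₀) Fs.card x hx
  refine ⟨V, hV, ?_⟩
  rintro ⟨z', hz', hz'x⟩
  apply hz'
  have hmem : z' ∈ Fs := hfin.mem_toFinset.2 hz'x
  have := hxV (e ⟨z', hmem⟩)
  change (bl g f t b) (e.symm (e ⟨z', hmem⟩)).1 ∈ V at this
  rw [Equiv.symm_apply_apply] at this
  exact this

end Open

end Groth.Agent.Lib.Helper5.WeilAF
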