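import Groth.Agent.Lib.Helper5.LocRepF.Abs
import Groth.Agent.Lib.Helper7.MorSBC
import Groth.Prelude.Def_Flatn

set_option autoImplicit false
universe w u
open CategoryTheory CategoryTheory.Limits AlgebraicGeometry Opposite

namespace Groth.Agent.Lib.Helper5.WeilAF

open Groth.Agent.Helper7.MorSBC Groth.Agent.Lib.Helper5.LocRepF

variable {Z X S : Scheme.{u}} (g : Z ⟶ S) (f : X ⟶ S)

section K
variable {T₀ : Scheme.{u}} (t : T₀ ⟶ S) (𝒱 : Scheme.OpenCover.{w} T₀) (j : 𝒱.I₀)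

theorem kk_cond : pullback.snd (pullback.fst t g) (𝒱.f j) ≫ (𝒱.f j ≫ t)
    = (pullback.fst (pullback.fst t g) (𝒱.f j) ≫ pullback.snd t g) ≫ g := by
  have c2 : pullback.fst (pullback.fst t g) (𝒱.f j) ≫ pullback.fst t g
      = pullback.snd (pullback.fst t g) (𝒱.f j) ≫ 𝒱.f j := pullback.condition
  have c3 : pullback.fst t g ≫ t = pullback.snd t g ≫ g := pullback.condition
  rw [← Category.assoc, ← c2, Category.assoc, c3, Category.assoc]

/-- comparison with `T_j ×_S Z`. -/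
noncomputable def kk : pullback (pullback.fst t g) (𝒱.f j) ⟶ pullback (𝒱.f j ≫ t) g :=
  pullback.lift (pullback.snd _ _) (pullback.fst _ _ ≫ pullback.snd t g) (kk_cond g t 𝒱 j)

theorem kk_fst : kk g t 𝒱 j ≫ pullback.fst (𝒱.f j ≫ t) g = pullback.snd _ _ :=
  pullback.lift_fst _ _ _

theorem kk_snd : kk g t 𝒱 j ≫ pullback.snd (𝒱.f j ≫ t) g
    = pullback.fst _ _ ≫ pullback.snd t g := pullback.lift_snd _ _ _

theorem kk_pmap : kk g t 𝒱 j ≫ pmap g (oHom (𝒱.f j) t)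
    = pullback.fst (pullback.fst t g) (𝒱.f j) := by
  apply pullback.hom_ext
  · have e1 : pmap g (oHom (𝒱.f j) t) ≫ pullback.fst t g
        = pullback.fst (𝒱.f j ≫ t) g ≫ 𝒱.f j := pmap_fst g _
    change (kk g t 𝒱 j ≫ pmap g (oHom (𝒱.f j) t)) ≫ pullback.fst t g
      = pullback.fst (pullback.fst t g) (𝒱.f j) ≫ pullback.fst t g
    rw [Category.assoc, e1, ← Category.assoc, kk_fst]
    exact pullback.condition.symm
  · have e1 : pmap g (oHom (𝒱.f j) t) ≫ pullback.snd t g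
        = pullback.snd (𝒱.f j ≫ t) g := pmap_snd g _
    change (kk g t 𝒱 j ≫ pmap g (oHom (𝒱.f j) t)) ≫ pullback.snd t g
      = pullback.fst (pullback.fst t g) (𝒱.f j) ≫ pullback.snd t g
    rw [Category.assoc, e1, kk_snd]

/-- the inverse comparison. -/
noncomputable def kinv : pullback (𝒱.f j ≫ t) g ⟶ pullback (pullback.fst t g) (𝒱.f j) :=
  pullback.lift (pmap g (oHom (𝒱.f j) t)) (pullback.fst (𝒱.f j ≫ t) g) (pmap_fst g _)

theorem kinv_kk : kinv g t 𝒱 j ≫ kk g t 𝒱 j = 𝟙 _ := by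
  apply pullback.hom_ext
  · rw [Category.assoc, kk_fst, Category.id_comp]
    exact pullback.lift_snd _ _ _
  · rw [Category.assoc, kk_snd, Category.id_comp, ← Category.assoc]
    have : kinv g t 𝒱 j ≫ pullback.fst (pullback.fst t g) (𝒱.f j)
        = pmap g (oHom (𝒱.f j) t) := pullback.lift_fst _ _ _
    rw [this]
    exact pmap_snd g _

end K

/-- the induced cover of `T ×_S Z`. -/
noncomputable def QQ {T₀ : Scheme.{u}} (t : T₀ ⟶ S) (𝒱 : Scheme.OpenCover.{w} T₀) :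
    Scheme.OpenCover.{w} (pullback t g) :=
  𝒱.pullback₁ (pullback.fst t g)

theorem morS_sep {T₀ : Scheme.{u}} (t : T₀ ⟶ S) (𝒱 : Scheme.OpenCover.{w} T₀)
    (b b' : (Flatn.morS g f).obj (op (Over.mk t)))
    (h : ∀ j, (Flatn.morS g f).map (oHom (𝒱.f j) t).op b
      = (Flatn.morS g f).map (oHom (𝒱.f j) t).op b') :
    b = b' := by
  apply Over.OverMorphism.ext
  apply Scheme.Cover.hom_ext (QQ g t 𝒱)
  intro j
  change pullback.fst (pullback.fst t g) (𝒱.f j) ≫ b.left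
    = pullback.fst (pullback.fst t g) (𝒱.f j) ≫ b'.left
  rw [← kk_pmap g t 𝒱 j, Category.assoc, Category.assoc, ← morS_map_left, ← morS_map_left, h j]


theorem morS_glue {T₀ : Scheme.{u}} (t : T₀ ⟶ S) (𝒱 : Scheme.OpenCover.{w} T₀)
    (b : ∀ j, (Flatn.morS g f).obj (op (Over.mk (𝒱.f j ≫ t))))
    (hb : ∀ (i j : 𝒱.I₀) (T₁ : Scheme.{u}) (a₁ : T₁ ⟶ 𝒱.X i) (a₂ : T₁ ⟶ 𝒱.X j)
      (h : a₁ ≫ 𝒱.f i = a₂ ≫ 𝒱.f j),
      (Flatn.morS g f).map (oHom a₁ (𝒱.f i ≫ t)).op (b i)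
        = (Flatn.morS g f).map (castHom (by rw [← Category.assoc, h, Category.assoc]) ≫
            oHom a₂ (𝒱.f j ≫ t) : Over.mk (a₁ ≫ 𝒱.f i ≫ t) ⟶ _).op (b j)) :
    ∃ β : (Flatn.morS g f).obj (op (Over.mk t)),
      ∀ j, (Flatn.morS g f).map (oHom (𝒱.f j) t).op β = b j := by
  -- the local morphisms
  let c : ∀ j : 𝒱.I₀, pullback (pullback.fst t g) (𝒱.f j) ⟶ X := fun j => kk g t 𝒱 j ≫ (b j).left
  have c3 : pullback.fst t g ≫ t = pullback.snd t g ≫ g := pullback.condition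
  have hov : ∀ i j : 𝒱.I₀,
      pullback.fst (pullback.fst (pullback.fst t g) (𝒱.f i))
        (pullback.fst (pullback.fst t g) (𝒱.f j)) ≫ c i
      = pullback.snd (pullback.fst (pullback.fst t g) (𝒱.f i))
        (pullback.fst (pullback.fst t g) (𝒱.f j)) ≫ c j := by
    intro i j
    set π₁ := pullback.fst (pullback.fst (pullback.fst t g) (𝒱.f i))
        (pullback.fst (pullback.fst t g) (𝒱.f j)) with hπ₁
    set π₂ := pullback.snd (pullback.fst (pullback.fst t g) (𝒱.f i))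
        (pullback.fst (pullback.fst t g) (𝒱.f j)) with hπ₂
    have hπ : π₁ ≫ pullback.fst (pullback.fst t g) (𝒱.f i)
        = π₂ ≫ pullback.fst (pullback.fst t g) (𝒱.f j) := pullback.condition
    let a₁ := π₁ ≫ pullback.snd (pullback.fst t g) (𝒱.f i)
    let a₂ := π₂ ≫ pullback.snd (pullback.fst t g) (𝒱.f j)
    have c2i : pullback.fst (pullback.fst t g) (𝒱.f i) ≫ pullback.fst t g
        = pullback.snd (pullback.fst t g) (𝒱.f i) ≫ 𝒱.f i := pullback.condition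
    have c2j : pullback.fst (pullback.fst t g) (𝒱.f j) ≫ pullback.fst t g
        = pullback.snd (pullback.fst t g) (𝒱.f j) ≫ 𝒱.f j := pullback.condition
    have ha : a₁ ≫ 𝒱.f i = a₂ ≫ 𝒱.f j := by
      simp only [a₁, a₂, Category.assoc]
      rw [← c2i, ← c2j, ← Category.assoc, hπ, Category.assoc]
    have hcompat := hb i j _ a₁ a₂ ha
    have hcompat' : pmap g (oHom a₁ (𝒱.f i ≫ t)) ≫ (b i).left
        = pmap g (castHom (by rw [← Category.assoc, ha, Category.assoc]) ≫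
            oHom a₂ (𝒱.f j ≫ t) : Over.mk (a₁ ≫ 𝒱.f i ≫ t) ⟶ _) ≫ (b j).left :=
      congrArg (fun m => m.left) hcompat
    -- the section
    have hσ : 𝟙 _ ≫ (a₁ ≫ 𝒱.f i ≫ t)
        = (π₁ ≫ pullback.fst (pullback.fst t g) (𝒱.f i) ≫ pullback.snd t g) ≫ g := by
      rw [Category.id_comp]
      simp only [a₁, Category.assoc]
      rw [← c3, ← Category.assoc (pullback.fst (pullback.fst t g) (𝒱.f i)), c2i, Category.assoc]
    let σ : pullback (pullback.fst (pullback.fst t g) (𝒱.f i))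
        (pullback.fst (pullback.fst t g) (𝒱.f j)) ⟶ pullback (a₁ ≫ 𝒱.f i ≫ t) g :=
      pullback.lift (𝟙 _) (π₁ ≫ pullback.fst (pullback.fst t g) (𝒱.f i) ≫ pullback.snd t g) hσ
    have eσ1 : σ ≫ pullback.fst (a₁ ≫ 𝒱.f i ≫ t) g = 𝟙 _ := pullback.lift_fst _ _ _
    have eσ2 : σ ≫ pullback.snd (a₁ ≫ 𝒱.f i ≫ t) g
        = π₁ ≫ pullback.fst (pullback.fst t g) (𝒱.f i) ≫ pullback.snd t g :=
      pullback.lift_snd _ _ _
    have hσ1 : σ ≫ pmap g (oHom a₁ (𝒱.f i ≫ t)) = π₁ ≫ kk g t 𝒱 i := by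
      apply pullback.hom_ext
      · have e1 : pmap g (oHom a₁ (𝒱.f i ≫ t)) ≫ pullback.fst (𝒱.f i ≫ t) g
            = pullback.fst (a₁ ≫ 𝒱.f i ≫ t) g ≫ a₁ := pmap_fst g _
        change (σ ≫ pmap g (oHom a₁ (𝒱.f i ≫ t))) ≫ pullback.fst (𝒱.f i ≫ t) g
          = (π₁ ≫ kk g t 𝒱 i) ≫ pullback.fst (𝒱.f i ≫ t) g
        rw [Category.assoc, e1, ← Category.assoc, eσ1, Category.id_comp, Category.assoc, kk_fst]
      · have e1 : pmap g (oHom a₁ (𝒱.f i ≫ t)) ≫ pullback.snd (𝒱.f i ≫ t) g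
            = pullback.snd (a₁ ≫ 𝒱.f i ≫ t) g := pmap_snd g _
        change (σ ≫ pmap g (oHom a₁ (𝒱.f i ≫ t))) ≫ pullback.snd (𝒱.f i ≫ t) g
          = (π₁ ≫ kk g t 𝒱 i) ≫ pullback.snd (𝒱.f i ≫ t) g
        rw [Category.assoc, e1, eσ2, Category.assoc, kk_snd]
    have hσ2 : σ ≫ pmap g (castHom (by rw [← Category.assoc, ha, Category.assoc]) ≫
            oHom a₂ (𝒱.f j ≫ t) : Over.mk (a₁ ≫ 𝒱.f i ≫ t) ⟶ _) = π₂ ≫ kk g t 𝒱 j := by
      apply pullback.hom_ext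
      · have e1 : pmap g (castHom (by rw [← Category.assoc, ha, Category.assoc]) ≫
            oHom a₂ (𝒱.f j ≫ t) : Over.mk (a₁ ≫ 𝒱.f i ≫ t) ⟶ _) ≫ pullback.fst (𝒱.f j ≫ t) g
            = pullback.fst (a₁ ≫ 𝒱.f i ≫ t) g ≫ (𝟙 _ ≫ a₂) := pmap_fst g _
        change (σ ≫ pmap g (castHom _ ≫ oHom a₂ (𝒱.f j ≫ t))) ≫ pullback.fst (𝒱.f j ≫ t) g
          = (π₂ ≫ kk g t 𝒱 j) ≫ pullback.fst (𝒱.f j ≫ t) g
        rw [Category.assoc, e1, ← Category.assoc, eσ1, Category.id_comp, Category.id_comp,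
          Category.assoc, kk_fst]
      · have e1 : pmap g (castHom (by rw [← Category.assoc, ha, Category.assoc]) ≫
            oHom a₂ (𝒱.f j ≫ t) : Over.mk (a₁ ≫ 𝒱.f i ≫ t) ⟶ _) ≫ pullback.snd (𝒱.f j ≫ t) g
            = pullback.snd (a₁ ≫ 𝒱.f i ≫ t) g := pmap_snd g _
        change (σ ≫ pmap g (castHom _ ≫ oHom a₂ (𝒱.f j ≫ t))) ≫ pullback.snd (𝒱.f j ≫ t) g
          = (π₂ ≫ kk g t 𝒱 j) ≫ pullback.snd (𝒱.f j ≫ t) g
        rw [Category.assoc, e1, eσ2, Category.assoc, kk_snd, ← Category.assoc, hπ, Category.assoc]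
    change π₁ ≫ kk g t 𝒱 i ≫ (b i).left = π₂ ≫ kk g t 𝒱 j ≫ (b j).left
    have e1 : π₁ ≫ kk g t 𝒱 i ≫ (b i).left
        = σ ≫ (pmap g (oHom a₁ (𝒱.f i ≫ t)) ≫ (b i).left) := by
      rw [← Category.assoc, ← hσ1, Category.assoc]
    have e2 : π₂ ≫ kk g t 𝒱 j ≫ (b j).left
        = σ ≫ (pmap g (castHom (by rw [← Category.assoc, ha, Category.assoc]) ≫
            oHom a₂ (𝒱.f j ≫ t) : Over.mk (a₁ ≫ 𝒱.f i ≫ t) ⟶ _) ≫ (b j).left) := by
      rw [← Category.assoc, ← hσ2, Category.assoc]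
    exact e1.trans ((congrArg (fun m => σ ≫ m) hcompat').trans e2.symm)
  let cc : pullback t g ⟶ X :=
    Scheme.Cover.glueMorphisms (QQ g t 𝒱) c (fun i j => hov i j)
  have hgl : ∀ j : 𝒱.I₀, pullback.fst (pullback.fst t g) (𝒱.f j) ≫ cc = c j :=
    fun j => Scheme.Cover.ι_glueMorphisms (QQ g t 𝒱) c (fun i j => hov i j) j
  have hcc : cc ≫ f = pullback.snd t g ≫ g := by
    apply Scheme.Cover.hom_ext (QQ g t 𝒱)
    intro j
    change pullback.fst (pullback.fst t g) (𝒱.f j) ≫ cc ≫ f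
      = pullback.fst (pullback.fst t g) (𝒱.f j) ≫ pullback.snd t g ≫ g
    rw [← Category.assoc, hgl j]
    change (kk g t 𝒱 j ≫ (b j).left) ≫ f = _
    rw [Category.assoc]
    have hw : (b j).left ≫ f = pullback.snd (𝒱.f j ≫ t) g ≫ g := Over.w (b j)
    rw [hw, ← Category.assoc, kk_snd, Category.assoc]
  let β : (Flatn.morS g f).obj (op (Over.mk t)) :=
    Over.homMk (U := (Over.map g).obj ((Over.pullback g).obj (Over.mk t))) (V := Over.mk f) cc hcc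
  refine ⟨β, fun j => ?_⟩
  apply Over.OverMorphism.ext
  rw [morS_map_left]
  change pmap g (oHom (𝒱.f j) t) ≫ cc = (b j).left
  have h1 : kk g t 𝒱 j ≫ pmap g (oHom (𝒱.f j) t) ≫ cc = kk g t 𝒱 j ≫ (b j).left := by
    rw [← Category.assoc, kk_pmap, hgl j]
  have h2 := congrArg (fun m => kinv g t 𝒱 j ≫ m) h1
  simpa only [← Category.assoc, kinv_kk, Category.id_comp] using h2

/-- `morS` is a Zariski sheaf. -/
theorem morS_isZarSheaf : IsZarSheaf.{w} (Flatn.morS g f) where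
  sep _ t 𝒱 := morS_sep g f t 𝒱
  glue _ t 𝒱 := morS_glue g f t 𝒱

end Groth.Agent.Lib.Helper5.WeilAF
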