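import Groth.Agent.Lib.Helper5.WeilAF.Gen
import Groth.Agent.Lib.Helper5.LocRepF.Fib
import Groth.Prelude.Def_WeilRes

set_option autoImplicit false
universe u
open CategoryTheory CategoryTheory.Limits AlgebraicGeometry Opposite

namespace Groth.Agent.Lib.Helper5.WeilAF

open Groth.Agent.Helper7.MorSBC Groth.Agent.Lib.Helper5.LocRepF

variable {S' S : Scheme.{u}} (f : S' ⟶ S) (X' : Over S')

/-- the structure morphism of `X'`, over `S`. -/
noncomputable def jX : Over.mk (X'.hom ≫ f) ⟶ Over.mk f := Over.homMk X'.hom rfl

/-- post-composition with the structure morphism of `X'`. -/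
noncomputable def postX : Flatn.morS f (X'.hom ≫ f) ⟶ Flatn.morS f f :=
  Functor.whiskerLeft (Over.pullback f ⋙ Over.map f).op (yoneda.map (jX f X'))

theorem postX_app_left {T : Over S} (b : (Flatn.morS f (X'.hom ≫ f)).obj (op T)) :
    ((postX f X').app (op T) b).left = b.left ≫ X'.hom := rfl

/-- the tautological section of `Mor_S(S', S')`. -/
noncomputable def eId (T : Over S) : (Flatn.morS f f).obj (op T) :=
  Over.homMk (U := (Over.map f).obj ((Over.pullback f).obj T)) (V := Over.mk f)
    (pullback.snd T.hom f) rfl

theorem eId_left (T : Over S) : (eId f T).left = pullback.snd T.hom f := rfl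

theorem eId_map {T T' : Over S} (φ : T' ⟶ T) :
    (Flatn.morS f f).map φ.op (eId f T) = eId f T' := by
  apply Over.OverMorphism.ext
  rw [morS_map_left, eId_left, eId_left]
  exact pmap_snd f φ

/-- sections of the Weil restriction functor as relative morphisms. -/
noncomputable def kap : WeilRes.functor f X' ⟶ Flatn.morS f (X'.hom ≫ f) where
  app T := TypeCat.ofHom fun c =>
    (Over.homMk (U := (Over.map f).obj ((Over.pullback f).obj T.unop))
      (V := Over.mk (X'.hom ≫ f)) c.left (by
        have : c.left ≫ X'.hom = ((Over.pullback f).obj T.unop).hom := Over.w c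
        change c.left ≫ X'.hom ≫ f = ((Over.pullback f).obj T.unop).hom ≫ f
        rw [← Category.assoc, this]) : (Flatn.morS f (X'.hom ≫ f)).obj T)
  naturality T T' φ := by
    apply ConcreteCategory.hom_ext
    intro c
    apply Over.OverMorphism.ext
    rfl

theorem kap_app_left {T : Over S} (c : (WeilRes.functor f X').obj (op T)) :
    ((kap f X').app (op T) c).left = c.left := rfl


theorem kap_injective (T : Over S) : Function.Injective ((kap f X').app (op T)) := by
  intro c c' h
  apply Over.OverMorphism.ext
  have := congrArg (fun m => m.left) h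
  exact this

theorem kap_range (T : Over S) (b : (Flatn.morS f (X'.hom ≫ f)).obj (op T)) :
    (∃ c, (kap f X').app (op T) c = b) ↔ (postX f X').app (op T) b = eId f T := by
  constructor
  · rintro ⟨c, rfl⟩
    apply Over.OverMorphism.ext
    rw [postX_app_left, kap_app_left, eId_left]
    exact Over.w c
  · intro h
    have h1 : b.left ≫ X'.hom = pullback.snd T.hom f := by
      have := congrArg (fun m => m.left) h
      exact this
    refine ⟨(Over.homMk (U := (Over.pullback f).obj T) (V := X') b.left h1 :
      (Over.pullback f).obj T ⟶ X'), ?_⟩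
    apply Over.OverMorphism.ext
    rfl

/-- representability of the Weil restriction functor from that of two functors of relative
morphisms. -/
theorem weilFunctor_isRepresentable
    (hF : (Flatn.morS f (X'.hom ≫ f)).IsRepresentable) (hG : (Flatn.morS f f).IsRepresentable) :
    (WeilRes.functor f X').IsRepresentable := by
  obtain ⟨M, ⟨r⟩⟩ := hF
  obtain ⟨N, ⟨s⟩⟩ := hG
  exact isRepresentable_fibre (pt := Over.mk (𝟙 S)) Over.mkIdTerminal r s (postX f X') (eId f)
    (fun φ => eId_map f φ) (kap f X') (kap_injective f X') (kap_range f X')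

/-- the Weil restriction along a finite locally free universally injective morphism exists. -/
theorem exists_weilRes_of_univInj (hf : Mor2.IsFinLocFree f) [UniversallyInjective f] :
    ∃ (R : Over S) (q : Red.bc f R ⟶ X'), WeilRes.IsWeilRes f X' R q := by
  haveI : IsFinite f := hf.1
  have hG : (Flatn.morS f f).IsRepresentable := by
    obtain ⟨W, -, ⟨r⟩⟩ := WeilP.weil_global f f hf
    exact ⟨⟨W, ⟨r⟩⟩⟩
  obtain ⟨R, ⟨e⟩⟩ := weilFunctor_isRepresentable f X' (main_univInj f (X'.hom ≫ f) hf) hG
  exact ⟨R, e.homEquiv (𝟙 R), WeilRes.IsWeilRes.of_representableBy e⟩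

end Groth.Agent.Lib.Helper5.WeilAF
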